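import Groth.Prelude.Def_NonAbH2
import Groth.Agent.S12496
import Groth.Agent.FpqcDescent.Affine
import Groth.Agent.AlgSpLib.SchFpqc
import Mathlib.AlgebraicGeometry.Morphisms.FlatDescent

/-!
# Torsors for the fpqc topology: properties of the group pass to the torsor
-/

set_option autoImplicit false
set_option linter.style.haveILetI false
set_option backward.isDefEq.respectTransparency false

universe u

open CategoryTheory CategoryTheory.Limits AlgebraicGeometry MonoidalCategory CartesianMonoidalCategory MonObj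

namespace Groth.Agent.FpqcTorsor

variable {S : Scheme.{u}} {G X : Over S} [GrpObj G]

/-- A pseudo-torsor becomes the group after a base change with a section. -/
theorem nonempty_iso_of_section (a : AlgGrp.Action G X) (ha : NonAbH1.IsPseudoTorsorSch a) {T : Over S} (σ : T ⟶ X) :
    ∃ e : G ⊗ T ≅ X ⊗ T, e.hom ≫ snd X T = snd G T := by
  let θ : G ⊗ X ⟶ X ⊗ X := lift a.act (snd G X)
  haveI : IsIso θ := ha
  let φ : G ⊗ T ⟶ X ⊗ T := lift ((G ◁ σ) ≫ a.act) (snd G T)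
  let ψ : X ⊗ T ⟶ G ⊗ T := lift ((X ◁ σ) ≫ inv θ ≫ fst G X) (snd X T)
  have h1 : φ ≫ (X ◁ σ) = (G ◁ σ) ≫ θ := by
    ext <;> simp [φ, θ]
  have hθ2 : inv θ ≫ snd G X = snd X X := by rw [IsIso.inv_comp_eq]; simp [θ]
  have hθ1 : inv θ ≫ a.act = fst X X := by rw [IsIso.inv_comp_eq]; simp [θ]
  have h2 : ψ ≫ (G ◁ σ) = (X ◁ σ) ≫ inv θ := by
    ext <;> simp [ψ, hθ2]
  refine ⟨⟨φ, ψ, ?_, ?_⟩, by simp [φ]⟩
  · ext
    · simp only [ψ, Category.assoc, lift_fst, Category.id_comp, reassoc_of% h1, IsIso.hom_inv_id_assoc, whiskerLeft_fst]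
    · simp [φ, ψ]
  · ext
    · simp only [φ, Category.assoc, lift_fst, Category.id_comp, reassoc_of% h2, hθ1, whiskerLeft_fst]
    · simp [φ, ψ]

/-- A property of the group which is stable under base change and fpqc local on the target passes to
every fpqc torsor. -/
theorem prop_of_isTorsorFor (P : MorphismProperty Scheme.{u}) [IsZariskiLocalAtTarget P] [P.IsStableUnderBaseChange]
    (hP : P.DescendsAlong (@Surjective ⊓ @Flat ⊓ @QuasiCompact : MorphismProperty Scheme.{u}))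
    (a : AlgGrp.Action G X) (h : NonAbH1.IsTorsorFor Scheme.fpqcPrecoverage a) (hG : P G.hom) : P X.hom := by
  obtain ⟨ha, R, hR, hsec⟩ := h
  obtain ⟨𝒰, h𝒰⟩ := Precoverage.mem_iff_exists_zeroHypercover.1 hR
  refine S12496.result P hP X.hom 𝒰 fun i => ?_
  obtain ⟨s, hs⟩ := hsec (𝒰.f i) (h𝒰 ▸ ⟨i⟩)
  obtain ⟨e, he⟩ := nonempty_iso_of_section a ha (T := Over.mk (𝒰.f i)) (Over.homMk s hs)
  let e' : (G ⊗ Over.mk (𝒰.f i)).left ≅ (X ⊗ Over.mk (𝒰.f i)).left := (Over.forget S).mapIso e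
  have he' : e'.hom ≫ pullback.snd X.hom (𝒰.f i) = pullback.snd G.hom (𝒰.f i) := congrArg CommaMorphism.left he
  have h2 : P (e'.inv ≫ pullback.snd G.hom (𝒰.f i)) :=
    (P.cancel_left_of_respectsIso e'.inv _).2 (MorphismProperty.pullback_snd _ _ hG)
  rw [← he', e'.inv_hom_id_assoc] at h2
  exact h2

theorem surjective_descends : MorphismProperty.DescendsAlong @Surjective
    (@Surjective ⊓ @Flat ⊓ @QuasiCompact : MorphismProperty Scheme.{u}) := inferInstance

theorem flat_of_isTorsorFor (a : AlgGrp.Action G X) (h : NonAbH1.IsTorsorFor Scheme.fpqcPrecoverage a) [Flat G.hom] :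
    Flat X.hom :=
  prop_of_isTorsorFor @Flat AlgSpLib.flat_descendsAlong a h inferInstance

theorem isAffineHom_of_isTorsorFor (a : AlgGrp.Action G X) (h : NonAbH1.IsTorsorFor Scheme.fpqcPrecoverage a)
    [IsAffineHom G.hom] : IsAffineHom X.hom :=
  prop_of_isTorsorFor @IsAffineHom FpqcDescent.isAffineHom_descendsAlong a h inferInstance

theorem quasiCompact_of_isTorsorFor (a : AlgGrp.Action G X) (h : NonAbH1.IsTorsorFor Scheme.fpqcPrecoverage a)
    [QuasiCompact G.hom] : QuasiCompact X.hom :=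
  prop_of_isTorsorFor @QuasiCompact FpqcDescent.quasiCompact_descendsAlong a h inferInstance

theorem surjective_of_isTorsorFor (a : AlgGrp.Action G X) (h : NonAbH1.IsTorsorFor Scheme.fpqcPrecoverage a) :
    Surjective X.hom :=
  prop_of_isTorsorFor @Surjective surjective_descends a h ⟨fun x => ⟨(MonObj.one : _ ⟶ G).left x, by
    rw [← Scheme.Hom.comp_apply]
    exact congrArg (fun f => f.base x) (Over.w (MonObj.one : _ ⟶ G))⟩⟩

/-- The canonical isomorphism is the orbit of the section. -/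
theorem isIso_orbit (a : AlgGrp.Action G X) (ha : NonAbH1.IsPseudoTorsorSch a) {T : Over S} (σ : T ⟶ X) :
    IsIso (lift ((G ◁ σ) ≫ a.act) (snd G T)) := by
  let θ : G ⊗ X ⟶ X ⊗ X := lift a.act (snd G X)
  haveI : IsIso θ := ha
  let φ : G ⊗ T ⟶ X ⊗ T := lift ((G ◁ σ) ≫ a.act) (snd G T)
  let ψ : X ⊗ T ⟶ G ⊗ T := lift ((X ◁ σ) ≫ inv θ ≫ fst G X) (snd X T)
  have h1 : φ ≫ (X ◁ σ) = (G ◁ σ) ≫ θ := by ext <;> simp [φ, θ]
  have hθ2 : inv θ ≫ snd G X = snd X X := by rw [IsIso.inv_comp_eq]; simp [θ]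
  have hθ1 : inv θ ≫ a.act = fst X X := by rw [IsIso.inv_comp_eq]; simp [θ]
  have h2 : ψ ≫ (G ◁ σ) = (X ◁ σ) ≫ inv θ := by ext <;> simp [ψ, hθ2]
  refine ⟨ψ, ?_, ?_⟩
  · change φ ≫ ψ = _
    ext
    · simp only [ψ, Category.assoc, lift_fst, Category.id_comp, reassoc_of% h1, IsIso.hom_inv_id_assoc, whiskerLeft_fst]
    · simp [φ, ψ]
  · change ψ ≫ φ = _
    ext
    · simp only [φ, Category.assoc, lift_fst, Category.id_comp, reassoc_of% h2, hθ1, whiskerLeft_fst]
    · simp [φ, ψ]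

theorem locallyOfFiniteType_of_isTorsorFor (a : AlgGrp.Action G X) (h : NonAbH1.IsTorsorFor Scheme.fpqcPrecoverage a)
    [LocallyOfFiniteType G.hom] : LocallyOfFiniteType X.hom :=
  prop_of_isTorsorFor @LocallyOfFiniteType inferInstance a h inferInstance

theorem locallyOfFinitePresentation_of_isTorsorFor (a : AlgGrp.Action G X) (h : NonAbH1.IsTorsorFor Scheme.fpqcPrecoverage a)
    [LocallyOfFinitePresentation G.hom] : LocallyOfFinitePresentation X.hom :=
  prop_of_isTorsorFor @LocallyOfFinitePresentation inferInstance a h inferInstance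

theorem smooth_of_isTorsorFor (a : AlgGrp.Action G X) (h : NonAbH1.IsTorsorFor Scheme.fpqcPrecoverage a)
    [Smooth G.hom] : Smooth X.hom :=
  prop_of_isTorsorFor @Smooth inferInstance a h inferInstance

theorem etale_of_isTorsorFor (a : AlgGrp.Action G X) (h : NonAbH1.IsTorsorFor Scheme.fpqcPrecoverage a)
    [Etale G.hom] : Etale X.hom :=
  prop_of_isTorsorFor @Etale inferInstance a h inferInstance

theorem isFinite_of_isTorsorFor (a : AlgGrp.Action G X) (h : NonAbH1.IsTorsorFor Scheme.fpqcPrecoverage a)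
    [IsFinite G.hom] : IsFinite X.hom :=
  prop_of_isTorsorFor @IsFinite FpqcDescent.isFinite_descendsAlong a h inferInstance

/-- Equivariant morphisms of torsors are isomorphisms. -/
theorem isIso_of_isEquivariant {X' : Over S} (a : AlgGrp.Action G X) (a' : AlgGrp.Action G X')
    (ha : NonAbH1.IsTorsorFor Scheme.fpqcPrecoverage a) (ha' : NonAbH1.IsPseudoTorsorSch a')
    (f : X ⟶ X') (hf : a.act ≫ f = (G ◁ f) ≫ a'.act) : IsIso f := by
  obtain ⟨ha, R, hR, hsec⟩ := ha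
  obtain ⟨𝒰, h𝒰⟩ := Precoverage.mem_iff_exists_zeroHypercover.1 hR
  suffices h : IsIso f.left by
    haveI : IsIso ((Over.forget S).map f) := h
    exact isIso_of_reflects_iso f (Over.forget S)
  refine S12496.result (MorphismProperty.isomorphisms Scheme.{u}) inferInstance f.left (𝒰.pullback₁ X'.hom) fun i => ?_
  obtain ⟨s, hs⟩ := hsec (𝒰.f i) (h𝒰 ▸ ⟨i⟩)
  let σ : Over.mk (𝒰.f i) ⟶ X := Over.homMk s hs
  haveI := isIso_orbit a ha σ
  haveI := isIso_orbit a' ha' (σ ≫ f)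
  have hT : IsIso (f ▷ Over.mk (𝒰.f i)) := by
    have h1 : lift ((G ◁ σ) ≫ a.act) (snd G (Over.mk (𝒰.f i))) ≫ (f ▷ Over.mk (𝒰.f i)) =
        lift ((G ◁ (σ ≫ f)) ≫ a'.act) (snd G (Over.mk (𝒰.f i))) := by
      ext <;> simp [hf]
    haveI : IsIso (lift ((G ◁ σ) ≫ a.act) (snd G (Over.mk (𝒰.f i))) ≫ (f ▷ Over.mk (𝒰.f i))) := by
      rw [h1]; infer_instance
    exact IsIso.of_isIso_comp_left (lift ((G ◁ σ) ≫ a.act) (snd G (Over.mk (𝒰.f i)))) _
  let k := (Over.forget S).map (f ▷ Over.mk (𝒰.f i))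
  haveI : IsIso k := inferInstance
  have hk1 : k ≫ pullback.fst X'.hom (𝒰.f i) = pullback.fst X.hom (𝒰.f i) ≫ f.left :=
    congrArg CommaMorphism.left (whiskerRight_fst f (Over.mk (𝒰.f i)))
  have hk2 : k ≫ pullback.snd X'.hom (𝒰.f i) = pullback.snd X.hom (𝒰.f i) :=
    congrArg CommaMorphism.left (whiskerRight_snd f (Over.mk (𝒰.f i)))
  have hbig : IsPullback (pullback.fst X.hom (𝒰.f i)) (k ≫ pullback.snd X'.hom (𝒰.f i)) (f.left ≫ X'.hom) (𝒰.f i) := by
    rw [hk2, Over.w f]; exact IsPullback.of_hasPullback _ _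
  have hsq : IsPullback (pullback.fst X.hom (𝒰.f i)) k f.left (pullback.fst X'.hom (𝒰.f i)) :=
    IsPullback.of_bot hbig hk1.symm (IsPullback.of_hasPullback _ _)
  show IsIso (pullback.snd f.left (pullback.fst X'.hom (𝒰.f i)))
  rw [← hsq.isoPullback_inv_snd]
  infer_instance

/-- Trivial torsors are the pseudo-torsors with a section. -/
theorem trivial_iff (a : AlgGrp.Action G X) :
    Nonempty (NonAbH1.EquivIso (NonAbH1.trivialAction G) a) ↔
      (NonAbH1.IsPseudoTorsorSch a ∧ NonAbH1.HasSectionOver X (𝟙 S)) := by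
  constructor
  · rintro ⟨⟨e, he⟩⟩
    replace he : μ[G] ≫ e.hom = (G ◁ e.hom) ≫ a.act := he
    refine ⟨?_, ⟨(η[G] ≫ e.hom).left, Over.w (η[G] ≫ e.hom)⟩⟩
    haveI h0 : IsIso (lift μ[G] (snd G G)) := NonAbH1.isPseudoTorsorSch_trivialAction G
    have h : (G ◁ e.hom) ≫ lift a.act (snd G X) = lift μ[G] (snd G G) ≫ (e.hom ⊗ₘ e.hom) := by
      ext <;> simp [he]
    show IsIso (lift a.act (snd G X))
    haveI : IsIso ((G ◁ e.hom) ≫ lift a.act (snd G X)) := by rw [h]; infer_instance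
    exact IsIso.of_isIso_comp_left (G ◁ e.hom) _
  · rintro ⟨ha, s, hs⟩
    let σ : 𝟙_ (Over S) ⟶ X := Over.homMk s hs
    haveI := isIso_orbit a ha σ
    let e : G ≅ X := (ρ_ G).symm ≪≫ asIso (lift ((G ◁ σ) ≫ a.act) (snd G (𝟙_ (Over S)))) ≪≫ ρ_ X
    have he : e.hom = (ρ_ G).inv ≫ (G ◁ σ) ≫ a.act := by simp [e, rightUnitor_hom]
    refine ⟨⟨e, ?_⟩⟩
    show μ[G] ≫ e.hom = (G ◁ e.hom) ≫ a.act
    have h1 : μ[G] ≫ (ρ_ G).inv ≫ (G ◁ σ) = (ρ_ (G ⊗ G)).inv ≫ ((G ⊗ G) ◁ σ) ≫ (μ[G] ▷ X) := by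
      rw [rightUnitor_inv_naturality_assoc, whisker_exchange]
    rw [he, reassoc_of% h1, a.mul_act]
    simp [MonoidalCategory.whiskerLeft_comp]

end Groth.Agent.FpqcTorsor
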