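import Groth.Agent.FpqcTorsor.Trivialize
import Groth.Agent.AbRigid.Basic
import Groth.Agent.SmoothDense.SepPoint

/-!
# Torsors under finite connected group schemes over a field
-/

set_option autoImplicit false
set_option linter.style.haveILetI false
set_option backward.isDefEq.respectTransparency false

universe u

open CategoryTheory CategoryTheory.Limits AlgebraicGeometry MonoidalCategory CartesianMonoidalCategory MonObj
open scoped TensorProduct

namespace Groth.Agent.FpqcTorsor

variable {K : Type u} [Field K]

theorem isClosed_singleton_of_isFinite {X : Scheme.{u}} (f : X ⟶ Spec (CommRingCat.of K)) [IsFinite f] :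
    DiscreteTopology X := by
  haveI : Finite X := Set.finite_univ_iff.1 ((f.finite_preimage_singleton default).subset
    fun x _ => Subsingleton.elim (α := PrimeSpectrum K) _ _)
  haveI : IsAffine X := isAffine_of_isAffineHom f
  haveI : IsFinite (Spec.map (Spec.preimage (X.isoSpec.inv ≫ f))) := by rw [Spec.map_preimage]; infer_instance
  have h : (Spec.preimage (X.isoSpec.inv ≫ f)).hom.Finite := (IsFinite.SpecMap_iff _).1 inferInstance
  letI := (Spec.preimage (X.isoSpec.inv ≫ f)).hom.toAlgebra
  haveI : Module.Finite K Γ(X, ⊤) := h
  haveI : IsArtinianRing Γ(X, ⊤) := IsArtinianRing.of_finite K _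
  haveI : DiscreteTopology (Spec Γ(X, ⊤)) := inferInstanceAs (DiscreteTopology (PrimeSpectrum _))
  exact X.isoSpec.hom.homeomorph.symm.discreteTopology

/-- A finite scheme over a field which becomes connected over a finite separable extension in which it
has a point, has a rational point. -/
theorem exists_section_of_connected_pullback {X : Scheme.{u}} (f : X ⟶ Spec (CommRingCat.of K)) [IsFinite f]
    (L : Type u) [Field L] [Algebra K L] [FiniteDimensional K L] [Algebra.IsSeparable K L]
    (σ : Spec (CommRingCat.of L) ⟶ X) (hσ : σ ≫ f = Spec.map (CommRingCat.ofHom (algebraMap K L)))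
    [ConnectedSpace ↥(pullback f (Spec.map (CommRingCat.ofHom (algebraMap K L))))] :
    ∃ s : Spec (CommRingCat.of K) ⟶ X, s ≫ f = 𝟙 _ := by
  set g := Spec.map (CommRingCat.ofHom (algebraMap K L))
  haveI := isClosed_singleton_of_isFinite (pullback.snd f g)
  haveI : Subsingleton ↥(pullback f g) :=
    ⟨fun a b => by simpa using (isPreconnected_univ (α := ↥(pullback f g))).subsingleton (Set.mem_univ a) (Set.mem_univ b)⟩
  obtain ⟨⟨x, j⟩, hxj⟩ := (Scheme.SpecToEquivOfField L X).symm.surjective σ
  have hxj' : Spec.map j ≫ X.fromSpecResidueField x = σ := hxj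
  let φ := Spec.preimage (R := CommRingCat.of K) (X.fromSpecResidueField x ≫ f)
  have hφ : Spec.map φ = X.fromSpecResidueField x ≫ f := Spec.map_preimage _
  letI := φ.hom.toAlgebra
  have hjφ : φ ≫ j = CommRingCat.ofHom (algebraMap K L) := by
    apply Spec.map_injective
    rw [Spec.map_comp, hφ, reassoc_of% hxj']
    exact hσ
  let jA : X.residueField x →ₐ[K] L := AlgHom.mk j.hom fun r => congrArg (fun m => m.hom r) hjφ
  haveI : FiniteDimensional K (X.residueField x) :=
    FiniteDimensional.of_injective jA.toLinearMap jA.toRingHom.injective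
  haveI : Algebra.FormallyUnramified K L := Algebra.FormallyUnramified.of_isSeparable K L
  haveI : Algebra.FormallyUnramified (X.residueField x) (X.residueField x ⊗[K] L) :=
    Algebra.FormallyUnramified.base_change (X.residueField x)
  haveI : IsReduced (X.residueField x ⊗[K] L) :=
    Algebra.FormallyUnramified.isReduced_of_field (X.residueField x) _
  haveI : Module.Finite K (X.residueField x ⊗[K] L) := inferInstance
  haveI : IsArtinianRing (X.residueField x ⊗[K] L) := IsArtinianRing.of_finite K _
  let m : X.residueField x ⊗[K] L →ₐ[K] L := Algebra.TensorProduct.lift jA (AlgHom.id K L) fun _ _ => .all _ _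
  let e : Spec (CommRingCat.of (X.residueField x ⊗[K] L)) ⟶ pullback f g :=
    (pullbackSpecIso K (X.residueField x) L).inv ≫ pullback.map _ _ _ _ (X.fromSpecResidueField x) (𝟙 _) (𝟙 _)
      (by rw [Category.comp_id, ← hφ]; rfl) (by simp [g])
  have he : Function.Injective e := by
    let k := pullback.map (Spec.map φ) g f g (X.fromSpecResidueField x) (𝟙 _) (𝟙 _)
      (by rw [Category.comp_id, hφ]) (by simp)
    have hsq : IsPullback (pullback.fst (Spec.map φ) g) k (X.fromSpecResidueField x) (pullback.fst f g) := by
      refine IsPullback.of_bot ?_ (pullback.lift_fst _ _ _).symm (IsPullback.of_hasPullback f g)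
      simp only [k, pullback.map, pullback.lift_snd, Category.comp_id, ← hφ]
      exact IsPullback.of_hasPullback _ _
    haveI : IsPreimmersion k := MorphismProperty.of_isPullback (P := @IsPreimmersion) hsq inferInstance
    exact fun a b hab => (pullbackSpecIso K (X.residueField x) L).inv.homeomorph.injective
      (k.isEmbedding.injective hab)
  haveI : Subsingleton (PrimeSpectrum (X.residueField x ⊗[K] L)) := he.subsingleton
  have hmax : IsField (X.residueField x ⊗[K] L) := by
    haveI : Nontrivial (X.residueField x ⊗[K] L) := m.toRingHom.domain_nontrivial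
    haveI : IsLocalRing (X.residueField x ⊗[K] L) := IsLocalRing.of_unique_max_ideal <| by
      obtain ⟨M, hM⟩ := Ideal.exists_maximal (X.residueField x ⊗[K] L)
      exact ⟨M, hM, fun M' hM' => congrArg PrimeSpectrum.asIdeal
        (Subsingleton.elim (α := PrimeSpectrum (X.residueField x ⊗[K] L)) ⟨M', hM'.isPrime⟩ ⟨M, hM.isPrime⟩)⟩
    exact IsArtinianRing.isField_of_isReduced_of_isLocalRing _
  letI := hmax.toField
  have hle : Module.finrank K (X.residueField x ⊗[K] L) ≤ Module.finrank K L :=
    LinearMap.finrank_le_finrank_of_injective (f := m.toLinearMap) m.toRingHom.injective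
  rw [Module.finrank_tensorProduct] at hle
  have h1 : Module.finrank K (X.residueField x) = 1 :=
    le_antisymm (Nat.le_of_mul_le_mul_right (by simpa using hle) Module.finrank_pos) Module.finrank_pos
  have hsurj : Function.Surjective (algebraMap K (X.residueField x)) := fun y => by
    obtain ⟨c, hc⟩ := Subalgebra.bot_eq_top_of_finrank_eq_one h1 ▸ (Algebra.mem_top : y ∈ (⊤ : Subalgebra K (X.residueField x)))
    exact ⟨c, hc⟩
  let eK : K ≃+* X.residueField x := RingEquiv.ofBijective φ.hom ⟨φ.hom.injective, hsurj⟩
  refine ⟨Spec.map (CommRingCat.ofHom eK.symm.toRingHom) ≫ X.fromSpecResidueField x, ?_⟩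
  rw [Category.assoc, ← hφ, ← Spec.map_comp, ← Spec.map_id]
  congr 1
  ext a
  exact eK.symm_apply_apply a

/-- Torsors under a finite connected group scheme with a separable point are trivial. -/
theorem hasSection_of_separable_point {G X : Over (Spec (CommRingCat.of K))} [GrpObj G] [IsFinite G.hom]
    [ConnectedSpace G.left] (a : AlgGrp.Action G X) (ha : NonAbH1.IsPseudoTorsorSch a) [IsFinite X.hom]
    (L : Type u) [Field L] [Algebra K L] [FiniteDimensional K L] [Algebra.IsSeparable K L]
    (σ : Over.mk (Spec.map (CommRingCat.ofHom (algebraMap K L))) ⟶ X) :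
    NonAbH1.HasSectionOver X (𝟙 (Spec (CommRingCat.of K))) := by
  haveI : GeometricallyConnected G.hom := by
    refine AbRigid.geometricallyConnected_of_section G.hom η[G].left (Over.w η[G]) fun s => ?_
    have hr : Set.range (G.hom.fiberι s) = Set.univ := by
      rw [G.hom.range_fiberι]
      exact Set.eq_univ_of_forall fun x => Subsingleton.elim (α := PrimeSpectrum K) _ _
    exact ((G.hom.fiberι s).isEmbedding.toHomeomorph.trans
      ((Homeomorph.setCongr hr).trans (Homeomorph.Set.univ _))).connectedSpace_iff.2 inferInstance
  let T := Over.mk (Spec.map (CommRingCat.ofHom (algebraMap K L)))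
  haveI := isIso_orbit a ha σ
  let e : (G ⊗ T).left ≅ (X ⊗ T).left := (Over.forget _).mapIso (asIso (lift ((G ◁ σ) ≫ a.act) (snd G T)))
  haveI : ConnectedSpace (G ⊗ T).left :=
    GeometricallyConnected.geometrically_connectedSpace (f := G.hom) _ _ _ (IsPullback.of_hasPullback G.hom T.hom)
  haveI : ConnectedSpace ↥(pullback X.hom (Spec.map (CommRingCat.ofHom (algebraMap K L)))) :=
    e.hom.homeomorph.connectedSpace_iff.1 inferInstance
  exact exists_section_of_connected_pullback X.hom L σ.left (Over.w σ)

end Groth.Agent.FpqcTorsor
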