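import Mathlib.CategoryTheory.Sites.IsSheafFor
import Mathlib.CategoryTheory.Limits.Shapes.BinaryProducts

/-!
# The sheaf condition for a Galois covering
-/

set_option autoImplicit false

universe w v u

open CategoryTheory CategoryTheory.Limits Opposite

namespace Groth.Agent.FpqcTorsor

/-- Sheaf condition for a map to a terminal object whose self-product is jointly covered by graphs. -/
theorem isSheafFor_singleton_iff_invariants {C : Type u} [Category.{v} C] {T Y : C} (hT : IsTerminal T)
    [HasBinaryProduct Y Y] (P : Cᵒᵖ ⥤ Type w) {G : Type*} (γ : G → (Y ⟶ Y))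
    (hinj : Function.Injective (fun s : P.obj (op (Y ⨯ Y)) => fun g : G => P.map (prod.lift (𝟙 Y) (γ g)).op s)) :
    Presieve.IsSheafFor P (Presieve.singleton (hT.from Y)) ↔
      (Function.Injective (P.map (hT.from Y).op) ∧
        Set.range (P.map (hT.from Y).op) = {s | ∀ g : G, P.map (γ g).op s = s}) := by
  have hinv : ∀ (y : P.obj (op T)) (g : G), P.map (γ g).op (P.map (hT.from Y).op y) = P.map (hT.from Y).op y := by
    intro y g
    rw [← Functor.map_comp_apply, ← op_comp, hT.hom_ext (γ g ≫ hT.from Y) (hT.from Y)]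
  rw [Presieve.isSheafFor_singleton]
  constructor
  · intro h
    have hc : ∀ s : P.obj (op Y), (∀ g, P.map (γ g).op s = s) →
        ∀ {Z : C} (p₁ p₂ : Z ⟶ Y), p₁ ≫ hT.from Y = p₂ ≫ hT.from Y → P.map p₁.op s = P.map p₂.op s := by
      intro s hs Z p₁ p₂ _
      have e : P.map (prod.fst : Y ⨯ Y ⟶ Y).op s = P.map (prod.snd : Y ⨯ Y ⟶ Y).op s := by
        refine hinj (funext fun g => ?_)
        simp only [← Functor.map_comp_apply, ← op_comp, prod.lift_fst, prod.lift_snd]
        rw [hs g]
        simp
      have := congrArg (P.map (prod.lift p₁ p₂).op) e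
      simpa only [← Functor.map_comp_apply, ← op_comp, prod.lift_fst, prod.lift_snd] using this
    refine ⟨fun y y' hy => ?_, Set.Subset.antisymm ?_ fun s hs => ?_⟩
    · obtain ⟨z, -, hz⟩ := h (P.map (hT.from Y).op y') (hc _ (hinv y'))
      exact (hz y hy).trans (hz y' rfl).symm
    · rintro _ ⟨y, rfl⟩; exact hinv y
    · obtain ⟨z, hz, -⟩ := h s (hc s hs)
      exact ⟨z, hz⟩
  · rintro ⟨h1, h2⟩ x hx
    have : x ∈ Set.range (P.map (hT.from Y).op) := by
      rw [h2]
      intro g
      have := hx (γ g) (𝟙 Y) (hT.hom_ext _ _)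
      simpa using this
    obtain ⟨y, hy⟩ := this
    exact ⟨y, hy, fun y' hy' => h1 (hy'.trans hy.symm)⟩

end Groth.Agent.FpqcTorsor
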