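import Groth.Agent.FpqcTorsor.Basic
import Mathlib.AlgebraicGeometry.Sites.Fpqc
import Mathlib.Algebra.Polynomial.AlgebraMap

/-!
# Invariant morphisms out of a torsor descend to the base
-/

set_option autoImplicit false
set_option linter.style.haveILetI false
set_option backward.isDefEq.respectTransparency false

universe u

open CategoryTheory CategoryTheory.Limits AlgebraicGeometry MonoidalCategory CartesianMonoidalCategory MonObj

namespace Groth.Agent.FpqcTorsor

variable {S : Scheme.{u}} {G X : Over S} [GrpObj G]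

/-- An invariant morphism takes the same value on two points of a pseudo-torsor over the same point of the base. -/
theorem comp_eq_of_invariant (a : AlgGrp.Action G X) (ha : NonAbH1.IsPseudoTorsorSch a) {A : Scheme.{u}} (m : X.left ⟶ A)
    (hm : a.act.left ≫ m = (snd G X).left ≫ m) {Z : Scheme.{u}} (u v : Z ⟶ X.left) (h : u ≫ X.hom = v ≫ X.hom) :
    u ≫ m = v ≫ m := by
  let θ : G ⊗ X ⟶ X ⊗ X := lift a.act (snd G X)
  haveI : IsIso θ := ha
  let U : Over.mk (u ≫ X.hom) ⟶ X := Over.homMk u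
  let V : Over.mk (u ≫ X.hom) ⟶ X := Over.homMk v h.symm
  let w := lift U V ≫ inv θ
  have hθ2 : inv θ ≫ snd G X = snd X X := by rw [IsIso.inv_comp_eq]; simp [θ]
  have hθ1 : inv θ ≫ a.act = fst X X := by rw [IsIso.inv_comp_eq]; simp [θ]
  have h1 : w ≫ a.act = U := by simp [w, hθ1]
  have h2 : w ≫ snd G X = V := by simp [w, hθ2]
  have e1 : w.left ≫ a.act.left = u := congrArg CommaMorphism.left h1
  have e2 : w.left ≫ (snd G X).left = v := congrArg CommaMorphism.left h2
  calc u ≫ m = (w.left ≫ a.act.left) ≫ m := congrArg (· ≫ m) e1.symm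
    _ = (w.left ≫ (snd G X).left) ≫ m := by rw [Category.assoc, hm, ← Category.assoc]
    _ = v ≫ m := congrArg (· ≫ m) e2

theorem hom_ext_of_cover {T A : Scheme.{u}} {R : Presieve T} (hR : R ∈ Scheme.fpqcPrecoverage T) (t t' : T ⟶ A)
    (h : ∀ ⦃T' : Scheme.{u}⦄ (f : T' ⟶ T), R f → f ≫ t = f ≫ t') : t = t' :=
  ((GrothendieckTopology.Subcanonical.isSheaf_of_isRepresentable (J := Scheme.fpqcTopology) (yoneda.obj A)).isSheafFor R
      (Precoverage.generate_mem_toGrothendieck hR)).isSeparatedFor.ext fun _ f hf => h f hf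

/-- Invariant morphisms out of a torsor factor uniquely through the base. -/
theorem existsUnique_desc (a : AlgGrp.Action G X) (ha : NonAbH1.IsTorsorFor Scheme.fpqcPrecoverage a) {A : Scheme.{u}}
    (m : X.left ⟶ A) (hm : a.act.left ≫ m = (snd G X).left ≫ m) : ∃! t : S ⟶ A, X.hom ≫ t = m := by
  obtain ⟨hp, R, hR, hsec⟩ := ha
  choose s hs using hsec
  have hsheaf := (GrothendieckTopology.Subcanonical.isSheaf_of_isRepresentable (J := Scheme.fpqcTopology) (yoneda.obj A)).isSheafFor R
      (Precoverage.generate_mem_toGrothendieck hR)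
  obtain ⟨t, ht, -⟩ := hsheaf (fun T f hf => s f hf ≫ m) (by
    intro T₁ T₂ Z g₁ g₂ f₁ f₂ h₁ h₂ hg
    show g₁ ≫ s f₁ h₁ ≫ m = g₂ ≫ s f₂ h₂ ≫ m
    simp only [← Category.assoc]
    exact comp_eq_of_invariant a hp m hm _ _ (by simp only [Category.assoc, hs, hg]))
  refine ⟨t, ?_, fun t' ht' => hom_ext_of_cover hR t' t fun T f hf => ?_⟩
  · obtain ⟨𝒰, rfl⟩ := Precoverage.mem_iff_exists_zeroHypercover.1 hR
    refine hom_ext_of_cover (𝒰.pullback₁ X.hom).mem₀ _ _ ?_
    rintro T f ⟨i⟩
    show pullback.fst X.hom (𝒰.f i) ≫ X.hom ≫ t = pullback.fst X.hom (𝒰.f i) ≫ m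
    have hti : 𝒰.f i ≫ t = s (𝒰.f i) ⟨i⟩ ≫ m := ht (𝒰.f i) ⟨i⟩
    rw [pullback.condition_assoc, hti, ← Category.assoc]
    exact comp_eq_of_invariant a hp m hm _ _ (by rw [Category.assoc, hs, pullback.condition])
  · have htf : f ≫ t = s f hf ≫ m := ht f hf
    rw [htf, ← ht', ← Category.assoc, hs]

/-- The affine line over the integers. -/
noncomputable abbrev lineRing : CommRingCat.{u} := CommRingCat.of (Polynomial (ULift.{u} ℤ))

/-- The function given by a morphism to the affine line. -/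
noncomputable def val {Y : Scheme.{u}} (m : Y ⟶ Spec lineRing.{u}) : Γ(Y, ⊤) :=
  m.appTop ((Scheme.ΓSpecIso lineRing.{u}).inv Polynomial.X)

theorem val_comp {Y Y' : Scheme.{u}} (f : Y' ⟶ Y) (m : Y ⟶ Spec lineRing.{u}) :
    val (f ≫ m) = f.appTop.hom (val m) := by
  simp [val]

theorem val_surjective {Y : Scheme.{u}} (s : Γ(Y, ⊤)) : ∃ m : Y ⟶ Spec lineRing.{u}, val m = s := by
  refine ⟨Y.toSpecΓ ≫ Spec.map (CommRingCat.ofHom
    (Polynomial.eval₂RingHom ((Int.castRingHom Γ(Y, ⊤)).comp ULift.ringEquiv.toRingHom) s)), ?_⟩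
  simp [val]

theorem val_injective {Y : Scheme.{u}} {m m' : Y ⟶ Spec lineRing.{u}} (h : val m = val m') : m = m' := by
  refine ext_of_isAffine ?_
  rw [← cancel_epi (Scheme.ΓSpecIso lineRing.{u}).inv]
  ext : 1
  refine Polynomial.ringHom_ext' ?_ h
  exact (RingHom.cancel_right (f := (ULift.ringEquiv.symm : ℤ ≃+* ULift.{u} ℤ).toRingHom)
    ULift.ringEquiv.symm.surjective).1 (RingHom.ext_int _ _)

/-- The functions on the base are the invariant functions on the torsor. -/
theorem appTop_injective_and_range (a : AlgGrp.Action G X) (ha : NonAbH1.IsTorsorFor Scheme.fpqcPrecoverage a) :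
    Function.Injective X.hom.appTop.hom ∧
      ∀ s : Γ(X.left, ⊤), s ∈ Set.range X.hom.appTop.hom ↔
        a.act.left.appTop.hom s = (snd G X).left.appTop.hom s := by
  have hinv : ∀ t : S ⟶ Spec lineRing.{u}, a.act.left ≫ X.hom ≫ t = (snd G X).left ≫ X.hom ≫ t := fun t => by
    rw [← Category.assoc, ← Category.assoc]
    congr 1
    exact (Over.w a.act).trans (Over.w (snd G X)).symm
  refine ⟨fun s s' h => ?_, fun s => ⟨?_, fun h => ?_⟩⟩
  · obtain ⟨m, rfl⟩ := val_surjective s
    obtain ⟨m', rfl⟩ := val_surjective s'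
    have : X.hom ≫ m = X.hom ≫ m' := val_injective (by rw [val_comp, val_comp]; exact h)
    rw [(existsUnique_desc a ha (X.hom ≫ m) (hinv m)).unique rfl this.symm]
  · rintro ⟨t, rfl⟩
    obtain ⟨m, rfl⟩ := val_surjective t
    rw [← val_comp, ← val_comp, ← val_comp, hinv m]
  · obtain ⟨m, rfl⟩ := val_surjective s
    obtain ⟨t, ht, -⟩ := existsUnique_desc a ha m (val_injective (by rw [val_comp, val_comp]; exact h))
    exact ⟨val t, by rw [← val_comp, ht]⟩

end Groth.Agent.FpqcTorsor
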