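import Groth.Agent.FpqcTorsor.Points

/-!
# Descent along morphisms with local sections
-/

set_option autoImplicit false
set_option linter.style.haveILetI false
set_option backward.isDefEq.respectTransparency false

universe u

open CategoryTheory CategoryTheory.Limits AlgebraicGeometry MonoidalCategory CartesianMonoidalCategory MonObj

namespace Groth.Agent.FpqcTorsor

variable {S : Scheme.{u}}

/-- The morphism acquires sections on the members of an fpqc covering family of its target. -/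
def LocSections {B C : Over S} (q : B ⟶ C) : Prop :=
  ∃ R ∈ Scheme.fpqcPrecoverage C.left, ∀ ⦃T : Scheme.{u}⦄ (f : T ⟶ C.left), R f → ∃ σ : T ⟶ B.left, σ ≫ q.left = f

theorem LocSections.comp {A B C : Over S} {p : A ⟶ B} {q : B ⟶ C} (hp : LocSections p) (hq : LocSections q) :
    LocSections (p ≫ q) := by
  obtain ⟨R, hR, hsec⟩ := hq
  obtain ⟨P, hP, hsecP⟩ := hp
  obtain ⟨𝒰, rfl⟩ := Precoverage.mem_iff_exists_zeroHypercover.1 hR
  obtain ⟨𝒱, rfl⟩ := Precoverage.mem_iff_exists_zeroHypercover.1 hP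
  choose s hs using fun i => hsec (𝒰.f i) ⟨i⟩
  refine ⟨_, Precoverage.comp_mem_coverings 𝒰.f 𝒰.mem₀
    (fun i j => (𝒱.pullback₁ (s i)).f j) (fun i => (𝒱.pullback₁ (s i)).mem₀), ?_⟩
  rintro T f ⟨⟨i, j⟩⟩
  obtain ⟨σ, hσ⟩ := hsecP (𝒱.f j) ⟨j⟩
  refine ⟨pullback.snd (s i) (𝒱.f j) ≫ σ, ?_⟩
  show (pullback.snd (s i) (𝒱.f j) ≫ σ) ≫ p.left ≫ q.left = pullback.fst (s i) (𝒱.f j) ≫ 𝒰.f i
  rw [Category.assoc, reassoc_of% hσ, ← pullback.condition_assoc, hs]

theorem LocSections.whiskerRight {B C : Over S} {q : B ⟶ C} (hq : LocSections q) (X : Over S) :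
    LocSections (q ▷ X) := by
  obtain ⟨R, hR, hsec⟩ := hq
  obtain ⟨𝒰, rfl⟩ := Precoverage.mem_iff_exists_zeroHypercover.1 hR
  refine ⟨_, (𝒰.pullback₁ (fst C X).left).mem₀, ?_⟩
  rintro T f ⟨i⟩
  obtain ⟨σ, hσ⟩ := hsec (𝒰.f i) ⟨i⟩
  let z := pullback.fst (fst C X).left (𝒰.f i)
  have hw : (pullback.snd (fst C X).left (𝒰.f i) ≫ σ) ≫ B.hom = (z ≫ (snd C X).left) ≫ X.hom := by
    rw [Category.assoc, Category.assoc, Over.w (snd C X), ← Over.w (fst C X), pullback.condition_assoc, ← Over.w q,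
      reassoc_of% hσ]
  refine ⟨pullback.lift _ _ hw, ?_⟩
  show pullback.lift _ _ hw ≫ (q ▷ X).left = z
  apply pullback.hom_ext
  · have : (q ▷ X).left ≫ (fst C X).left = (fst B X).left ≫ q.left := congrArg CommaMorphism.left (whiskerRight_fst q X)
    show (_ ≫ (q ▷ X).left) ≫ (fst C X).left = z ≫ (fst C X).left
    rw [Category.assoc, this]
    show pullback.lift _ _ hw ≫ pullback.fst B.hom X.hom ≫ q.left = _
    rw [pullback.lift_fst_assoc, Category.assoc, hσ, pullback.condition]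
  · have : (q ▷ X).left ≫ (snd C X).left = (snd B X).left := congrArg CommaMorphism.left (whiskerRight_snd q X)
    show (_ ≫ (q ▷ X).left) ≫ (snd C X).left = z ≫ (snd C X).left
    rw [Category.assoc, this]
    exact pullback.lift_snd _ _ _

theorem LocSections.of_iso {B C : Over S} (q : B ≅ C) : LocSections q.hom := by
  refine ⟨_, Scheme.fpqcPrecoverage.mem_coverings_of_isIso (𝟙 C.left), ?_⟩
  rintro T f ⟨⟩
  exact ⟨q.inv.left, congrArg CommaMorphism.left q.inv_hom_id⟩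

theorem LocSections.whiskerLeft {B C : Over S} {q : B ⟶ C} (hq : LocSections q) (X : Over S) :
    LocSections (X ◁ q) := by
  have : X ◁ q = (β_ X B).hom ≫ (q ▷ X) ≫ (β_ C X).hom := by
    apply CartesianMonoidalCategory.hom_ext <;> simp
  rw [this]
  exact (LocSections.of_iso (β_ X B)).comp ((hq.whiskerRight X).comp (LocSections.of_iso (β_ C X)))

theorem LocSections.epi {B C A : Over S} {q : B ⟶ C} (hq : LocSections q) {r r' : C ⟶ A} (h : q ≫ r = q ≫ r') : r = r' := by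
  obtain ⟨R, hR, hsec⟩ := hq
  refine Over.OverMorphism.ext (hom_ext_of_cover hR _ _ fun T f hf => ?_)
  obtain ⟨σ, hσ⟩ := hsec f hf
  rw [← hσ, Category.assoc, Category.assoc, ← Over.comp_left, h, Over.comp_left]

/-- A morphism constant on the fibres of a morphism with local sections descends. -/
theorem LocSections.exists_desc {B C A : Over S} {q : B ⟶ C} (hq : LocSections q) (m : B ⟶ A)
    (hm : ∀ {T : Over S} (U V : T ⟶ B), U ≫ q = V ≫ q → U ≫ m = V ≫ m) : ∃ t : C ⟶ A, q ≫ t = m := by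
  obtain ⟨R, hR, hsec⟩ := hq
  have key : ∀ {Z : Scheme.{u}} (u v : Z ⟶ B.left), u ≫ q.left = v ≫ q.left → u ≫ m.left = v ≫ m.left := by
    intro Z u v huv
    let U : Over.mk (u ≫ B.hom) ⟶ B := Over.homMk u
    let V : Over.mk (u ≫ B.hom) ⟶ B := Over.homMk v (by
      show v ≫ B.hom = u ≫ B.hom
      rw [← Over.w q, reassoc_of% huv])
    exact congrArg CommaMorphism.left (hm U V (Over.OverMorphism.ext huv))
  obtain ⟨𝒰, rfl⟩ := Precoverage.mem_iff_exists_zeroHypercover.1 hR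
  choose s hs using hsec
  have hsheaf := (GrothendieckTopology.Subcanonical.isSheaf_of_isRepresentable (J := Scheme.fpqcTopology) (yoneda.obj A.left)).isSheafFor _
      (Precoverage.generate_mem_toGrothendieck 𝒰.mem₀)
  obtain ⟨t, ht, -⟩ := hsheaf (fun T f hf => s f hf ≫ m.left) (by
    intro T₁ T₂ Z g₁ g₂ f₁ f₂ h₁ h₂ hg
    show g₁ ≫ s f₁ h₁ ≫ m.left = g₂ ≫ s f₂ h₂ ≫ m.left
    simp only [← Category.assoc]
    exact key _ _ (by simp only [Category.assoc, hs, hg]))
  have ht' : ∀ ⦃T : Scheme.{u}⦄ (f : T ⟶ C.left) (hf : 𝒰.presieve₀ f), f ≫ t = s f hf ≫ m.left := ht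
  have htS : t ≫ A.hom = C.hom := hom_ext_of_cover 𝒰.mem₀ _ _ fun T f hf => by
    rw [reassoc_of% (ht' f hf), Over.w m, ← Over.w q, reassoc_of% (hs f hf)]
  refine ⟨Over.homMk t htS, Over.OverMorphism.ext ?_⟩
  show q.left ≫ t = m.left
  refine hom_ext_of_cover (𝒰.pullback₁ q.left).mem₀ _ _ ?_
  rintro T f ⟨i⟩
  show pullback.fst q.left (𝒰.f i) ≫ q.left ≫ t = pullback.fst q.left (𝒰.f i) ≫ m.left
  rw [pullback.condition_assoc, ht' _ ⟨i⟩, ← Category.assoc]
  exact key _ _ (by rw [Category.assoc, hs, pullback.condition])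

end Groth.Agent.FpqcTorsor
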