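import Groth.Agent.FpqcTorsor.Invariant
import Mathlib.CategoryTheory.Monoidal.Cartesian.Mon

/-!
# Torsors: calculus with points, relative descent
-/

set_option autoImplicit false
set_option linter.style.haveILetI false
set_option backward.isDefEq.respectTransparency false

universe u

open CategoryTheory CategoryTheory.Limits AlgebraicGeometry MonoidalCategory CartesianMonoidalCategory MonObj

namespace Groth.Agent.FpqcTorsor

variable {S : Scheme.{u}} {G X : Over S} [GrpObj G]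

/-- Action of a point of the group on a point. -/
noncomputable def pt (a : AlgGrp.Action G X) {T : Over S} (g : T ⟶ G) (x : T ⟶ X) : T ⟶ X := lift g x ≫ a.act

theorem comp_pt (a : AlgGrp.Action G X) {T T' : Over S} (k : T' ⟶ T) (g : T ⟶ G) (x : T ⟶ X) :
    k ≫ pt a g x = pt a (k ≫ g) (k ≫ x) := by
  simp [pt, comp_lift_assoc]

theorem pt_one (a : AlgGrp.Action G X) {T : Over S} (x : T ⟶ X) : pt a (1 : T ⟶ G) x = x := by
  have h : lift (1 : T ⟶ G) x = lift (toUnit T) x ≫ (η[G] ▷ X) := by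
    apply CartesianMonoidalCategory.hom_ext <;> simp [Hom.one_def]
  rw [pt, h, Category.assoc, a.one_act]
  simp

theorem pt_mul (a : AlgGrp.Action G X) {T : Over S} (g g' : T ⟶ G) (x : T ⟶ X) :
    pt a (g * g') x = pt a g (pt a g' x) := by
  have h : lift (g * g') x = lift (lift g g') x ≫ (μ[G] ▷ X) := by
    apply CartesianMonoidalCategory.hom_ext <;> simp [Hom.mul_def]
  have h' : lift (lift g g') x ≫ (α_ G G X).hom ≫ (G ◁ a.act) = lift g (lift g' x ≫ a.act) := by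
    apply CartesianMonoidalCategory.hom_ext
    · simp
    · simp only [Category.assoc, whiskerLeft_snd, lift_snd]
      have e : lift (lift g g') x ≫ (α_ G G X).hom ≫ snd G (G ⊗ X) = lift g' x := by
        apply CartesianMonoidalCategory.hom_ext <;> simp
      rw [reassoc_of% e]
  rw [pt, pt, pt, h, Category.assoc, a.mul_act, reassoc_of% h']

theorem pt_cancel (a : AlgGrp.Action G X) (ha : NonAbH1.IsPseudoTorsorSch a) {T : Over S} {g g' : T ⟶ G} {x : T ⟶ X}
    (h : pt a g x = pt a g' x) : g = g' := by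
  haveI : IsIso (lift a.act (snd G X)) := ha
  have : lift g x = lift g' x := by
    rw [← cancel_mono (lift a.act (snd G X))]
    apply CartesianMonoidalCategory.hom_ext
    · simpa [pt] using h
    · simp
  simpa using congrArg (fun k => k ≫ fst G X) this

theorem exists_pt (a : AlgGrp.Action G X) (ha : NonAbH1.IsPseudoTorsorSch a) {T : Over S} (x y : T ⟶ X) :
    ∃ g : T ⟶ G, pt a g x = y := by
  let θ : G ⊗ X ⟶ X ⊗ X := lift a.act (snd G X)
  haveI : IsIso θ := ha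
  have hθ2 : inv θ ≫ snd G X = snd X X := by rw [IsIso.inv_comp_eq]; simp [θ]
  have hθ1 : inv θ ≫ a.act = fst X X := by rw [IsIso.inv_comp_eq]; simp [θ]
  refine ⟨lift y x ≫ inv θ ≫ fst G X, ?_⟩
  have h : lift (lift y x ≫ inv θ ≫ fst G X) x = lift y x ≫ inv θ := by
    apply CartesianMonoidalCategory.hom_ext <;> simp [hθ2]
  rw [pt, h, Category.assoc, hθ1, lift_fst]

/-- A morphism out of `W ⊗ X` invariant under the group factors uniquely through `W`. -/
theorem existsUnique_desc₂ (a : AlgGrp.Action G X) (ha : NonAbH1.IsTorsorFor Scheme.fpqcPrecoverage a) {W A : Over S}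
    (m : W ⊗ X ⟶ A) (hm : (W ◁ a.act) ≫ m = (W ◁ snd G X) ≫ m) : ∃! t : W ⟶ A, fst W X ≫ t = m := by
  obtain ⟨hp, R, hR, hsec⟩ := ha
  obtain ⟨𝒰, rfl⟩ := Precoverage.mem_iff_exists_zeroHypercover.1 hR
  have key : ∀ {Z : Scheme.{u}} (u v : Z ⟶ (W ⊗ X).left), u ≫ (fst W X).left = v ≫ (fst W X).left →
      u ≫ m.left = v ≫ m.left := by
    intro Z u v huv
    let U : Over.mk (u ≫ (W ⊗ X).hom) ⟶ W ⊗ X := Over.homMk u
    let V : Over.mk (u ≫ (W ⊗ X).hom) ⟶ W ⊗ X := Over.homMk v (by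
      show v ≫ (W ⊗ X).hom = u ≫ (W ⊗ X).hom
      rw [← Over.w (fst W X), reassoc_of% huv])
    have e : U ≫ fst W X = V ≫ fst W X := Over.OverMorphism.ext huv
    obtain ⟨g, hg⟩ := exists_pt a hp (V ≫ snd W X) (U ≫ snd W X)
    let w := lift (V ≫ fst W X) (lift g (V ≫ snd W X))
    have h1 : w ≫ (W ◁ a.act) = U := by
      apply CartesianMonoidalCategory.hom_ext
      · simp [w, e]
      · simpa [w, pt] using hg
    have h2 : w ≫ (W ◁ snd G X) = V := by
      apply CartesianMonoidalCategory.hom_ext <;> simp [w]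
    have : U ≫ m = V ≫ m := by rw [← h1, ← h2, Category.assoc, Category.assoc, hm]
    exact congrArg CommaMorphism.left this
  let R' := (𝒰.pullback₁ W.hom).presieve₀
  have hR' : R' ∈ Scheme.fpqcPrecoverage W.left := (𝒰.pullback₁ W.hom).mem₀
  have hsec' : ∀ ⦃T : Scheme.{u}⦄ (f : T ⟶ W.left), R' f → ∃ σ : T ⟶ (W ⊗ X).left, σ ≫ (fst W X).left = f := by
    rintro T f ⟨i⟩
    obtain ⟨s, hs⟩ := hsec (𝒰.f i) ⟨i⟩
    refine ⟨pullback.lift (pullback.fst W.hom (𝒰.f i)) (pullback.snd W.hom (𝒰.f i) ≫ s) ?_, pullback.lift_fst _ _ _⟩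
    rw [Category.assoc, hs, pullback.condition]
  choose s hs using hsec'
  have hsheaf := (GrothendieckTopology.Subcanonical.isSheaf_of_isRepresentable (J := Scheme.fpqcTopology) (yoneda.obj A.left)).isSheafFor R'
      (Precoverage.generate_mem_toGrothendieck hR')
  obtain ⟨t, ht, -⟩ := hsheaf (fun T f hf => s f hf ≫ m.left) (by
    intro T₁ T₂ Z g₁ g₂ f₁ f₂ h₁ h₂ hg
    show g₁ ≫ s f₁ h₁ ≫ m.left = g₂ ≫ s f₂ h₂ ≫ m.left
    simp only [← Category.assoc]
    exact key _ _ (by simp only [Category.assoc, hs, hg]))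
  have ht' : ∀ ⦃T : Scheme.{u}⦄ (f : T ⟶ W.left) (hf : R' f), f ≫ t = s f hf ≫ m.left := ht
  have htS : t ≫ A.hom = W.hom := hom_ext_of_cover hR' _ _ fun T f hf => by
    rw [reassoc_of% (ht' f hf), Over.w m, ← Over.w (fst W X), reassoc_of% (hs f hf)]
  refine ⟨Over.homMk t htS, ?_, fun t' h' => Over.OverMorphism.ext (hom_ext_of_cover hR' _ _ fun T f hf => ?_)⟩
  · refine Over.OverMorphism.ext ?_
    show (fst W X).left ≫ t = m.left
    let 𝒱 := (𝒰.pullback₁ W.hom).pullback₁ (fst W X).left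
    refine hom_ext_of_cover 𝒱.mem₀ _ _ ?_
    rintro T f ⟨i⟩
    have hf : R' ((𝒰.pullback₁ W.hom).f i) := ⟨i⟩
    show pullback.fst (fst W X).left ((𝒰.pullback₁ W.hom).f i) ≫ (fst W X).left ≫ t =
      pullback.fst (fst W X).left ((𝒰.pullback₁ W.hom).f i) ≫ m.left
    rw [pullback.condition_assoc, ht' _ hf, ← Category.assoc]
    exact key _ _ (by rw [Category.assoc, hs, pullback.condition])
  · show f ≫ t'.left = f ≫ t
    rw [ht' f hf, ← h', Over.comp_left, reassoc_of% (hs f hf)]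

/-- Two morphisms agreeing after projecting from the product with a torsor agree. -/
theorem cancel_fst (a : AlgGrp.Action G X) (ha : NonAbH1.IsTorsorFor Scheme.fpqcPrecoverage a) {W A : Over S}
    {r r' : W ⟶ A} (h : fst W X ≫ r = fst W X ≫ r') : r = r' :=
  (existsUnique_desc₂ a ha (fst W X ≫ r) (by simp)).unique rfl h.symm

/-- Morphisms of torsors along a homomorphism are determined by, and extend, equivariant maps. -/
theorem existsUnique_pushforward_hom {J J' J'' P P' P'' : Over S} [GrpObj J] [GrpObj J'] [GrpObj J'']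
    (u : J ⟶ J') (v : J' ⟶ J'') [IsMonHom v] (a : AlgGrp.Action J P) (a' : AlgGrp.Action J' P')
    (a'' : AlgGrp.Action J'' P'') (hP : NonAbH1.IsTorsorFor Scheme.fpqcPrecoverage a)
    (hP' : NonAbH1.IsPseudoTorsorSch a') (q' : P ⟶ P') (hq' : a.act ≫ q' = lift (fst J P ≫ u) (snd J P ≫ q') ≫ a'.act)
    (q'' : P ⟶ P'') (hq'' : a.act ≫ q'' = lift (fst J P ≫ u ≫ v) (snd J P ≫ q'') ≫ a''.act) :
    ∃! r : P' ⟶ P'', a'.act ≫ r = lift (fst J' P' ≫ v) (snd J' P' ≫ r) ≫ a''.act ∧ q' ≫ r = q'' := by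
  have hq1 : ∀ {T : Over S} (h : T ⟶ J) (p : T ⟶ P), pt a h p ≫ q' = pt a' (h ≫ u) (p ≫ q') := fun h p => by
    simp [pt, hq']
  have hq2 : ∀ {T : Over S} (h : T ⟶ J) (p : T ⟶ P), pt a h p ≫ q'' = pt a'' (h ≫ u ≫ v) (p ≫ q'') := fun h p => by
    simp [pt, hq'']
  obtain ⟨g₀, hg₀⟩ := exists_pt a' hP' (snd P' P ≫ q') (fst P' P)
  let m : P' ⊗ P ⟶ P'' := pt a'' (g₀ ≫ v) (snd P' P ≫ q'')
  have hm : ∀ {T : Over S} (p' : T ⟶ P') (p : T ⟶ P) (g : T ⟶ J'), pt a' g (p ≫ q') = p' →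
      lift p' p ≫ m = pt a'' (g ≫ v) (p ≫ q'') := by
    intro T p' p g hg
    have h1 := congrArg (fun k => lift p' p ≫ k) hg₀
    simp only [comp_pt, lift_snd_assoc, lift_fst] at h1
    have : lift p' p ≫ g₀ = g := pt_cancel a' hP' (h1.trans hg.symm)
    rw [← this]
    simp [m, comp_pt]
  obtain ⟨r, hr, hru⟩ := existsUnique_desc₂ a hP m (by
    obtain ⟨g, hg⟩ := exists_pt a' hP' (((P' ◁ a.act) ≫ snd P' P) ≫ q') ((P' ◁ a.act) ≫ fst P' P)
    let p := snd P' (J ⊗ P) ≫ snd J P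
    let h := snd P' (J ⊗ P) ≫ fst J P
    have hp : pt a h p = (P' ◁ a.act) ≫ snd P' P := by
      have : lift h p = snd P' (J ⊗ P) := by apply CartesianMonoidalCategory.hom_ext <;> simp [h, p]
      rw [pt, this, whiskerLeft_snd]
    have hl : (P' ◁ a.act) = lift (fst P' (J ⊗ P)) (pt a h p) := by
      apply CartesianMonoidalCategory.hom_ext <;> simp [hp]
    have hr : (P' ◁ snd J P) = lift (fst P' (J ⊗ P)) p := by
      apply CartesianMonoidalCategory.hom_ext <;> simp [p]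
    rw [← hp, whiskerLeft_fst] at hg
    rw [hl, hr, hm _ _ g hg, hm _ _ (g * (h ≫ u)) (by rw [pt_mul, ← hq1]; exact hg), hq2, MonObj.mul_comp,
      pt_mul]
    simp only [h, Category.assoc])
  have hr' : ∀ {T : Over S} (p' : T ⟶ P') (p : T ⟶ P) (g : T ⟶ J'), pt a' g (p ≫ q') = p' →
      p' ≫ r = pt a'' (g ≫ v) (p ≫ q'') := fun p' p g hg => by
    rw [← hm p' p g hg, ← hr, lift_fst_assoc]
  refine ⟨r, ⟨?_, ?_⟩, fun r' ⟨h1, h2⟩ => ?_⟩
  · refine cancel_fst a hP ?_
    let h := fst (J' ⊗ P') P ≫ fst J' P'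
    let p' := fst (J' ⊗ P') P ≫ snd J' P'
    let p := snd (J' ⊗ P') P
    obtain ⟨g, hg⟩ := exists_pt a' hP' (p ≫ q') p'
    have e1 : fst (J' ⊗ P') P ≫ a'.act = pt a' (h * g) (p ≫ q') := by
      rw [pt_mul, hg, pt]
      congr 1
      apply CartesianMonoidalCategory.hom_ext <;> simp [h, p']
    have e2 : fst (J' ⊗ P') P ≫ lift (fst J' P' ≫ v) (snd J' P' ≫ r) ≫ a''.act = pt a'' (h ≫ v) (p' ≫ r) := by
      rw [pt]
      simp only [h, p', comp_lift_assoc, Category.assoc]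
    rw [e2, ← Category.assoc, hr' _ p (h * g) e1.symm, hr' p' p g hg, MonObj.mul_comp, pt_mul]
  · have := hr' q' (𝟙 P) 1 (by rw [pt_one]; simp)
    rw [this, MonObj.one_comp, pt_one]
    simp
  · refine hru r' ?_
    show fst P' P ≫ r' = m
    have h3 : ∀ {T : Over S} (g : T ⟶ J') (x : T ⟶ P'), pt a' g x ≫ r' = pt a'' (g ≫ v) (x ≫ r') := fun g x => by
      simp [pt, h1]
    rw [← hg₀, h3, Category.assoc, h2]

end Groth.Agent.FpqcTorsor
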