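import Groth.Agent.FpqcTorsor.Trivialize
import Groth.Agent.FpqcTorsor.Points

/-!
# Torsors and mapping properties with respect to a base change
-/

set_option autoImplicit false
set_option linter.style.haveILetI false
set_option backward.isDefEq.respectTransparency false

universe u

open CategoryTheory CategoryTheory.Limits AlgebraicGeometry MonoidalCategory CartesianMonoidalCategory MonObj

namespace Groth.Agent.FpqcTorsor

variable {S S' : Scheme.{u}} (j : S' ⟶ S)

local notation "F" => Over.pullback j

theorem map_hom_ext {T' : Over S'} {A B : Over S} {f g : T' ⟶ (F).obj (A ⊗ B)}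
    (h1 : f ≫ (F).map (fst A B) = g ≫ (F).map (fst A B)) (h2 : f ≫ (F).map (snd A B) = g ≫ (F).map (snd A B)) :
    f = g := by
  rw [← cancel_mono (Functor.Monoidal.μIso (F) A B).inv]
  apply CartesianMonoidalCategory.hom_ext
  · simpa using h1
  · simpa using h2

/-- Pairing into a base-changed product. -/
noncomputable def pairing {T' : Over S'} {A B : Over S} (f : T' ⟶ (F).obj A) (g : T' ⟶ (F).obj B) :
    T' ⟶ (F).obj (A ⊗ B) :=
  lift f g ≫ Functor.LaxMonoidal.μ (F) A B

@[simp, reassoc]
theorem pairing_fst {T' : Over S'} {A B : Over S} (f : T' ⟶ (F).obj A) (g : T' ⟶ (F).obj B) :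
    pairing j f g ≫ (F).map (fst A B) = f := by simp [pairing]

@[simp, reassoc]
theorem pairing_snd {T' : Over S'} {A B : Over S} (f : T' ⟶ (F).obj A) (g : T' ⟶ (F).obj B) :
    pairing j f g ≫ (F).map (snd A B) = g := by simp [pairing]

variable {G X : Over S} [GrpObj G] [Smooth G.hom] [Smooth X.hom]

/-- A shear map which is an isomorphism after restriction is one, given the mapping properties. -/
theorem isPseudoTorsor_of_bijective (a : AlgGrp.Action G X)
    (hG : ∀ Z : Over S, Smooth Z.hom → Function.Bijective (fun g : Z ⟶ G => (F).map g))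
    (hN : ∀ Z : Over S, Smooth Z.hom → Function.Bijective (fun g : Z ⟶ X => (F).map g))
    (h0 : IsIso ((F).map (lift a.act (snd G X)))) : NonAbH1.IsPseudoTorsorSch a := by
  haveI := h0
  haveI : Smooth (X ⊗ X).hom := by show Smooth (pullback.fst X.hom X.hom ≫ X.hom); infer_instance
  haveI : Smooth (G ⊗ X).hom := by show Smooth (pullback.fst G.hom X.hom ≫ G.hom); infer_instance
  let θ : G ⊗ X ⟶ X ⊗ X := lift a.act (snd G X)
  obtain ⟨g, hg⟩ := (hG (X ⊗ X) inferInstance).2 (inv ((F).map θ) ≫ (F).map (fst G X))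
  replace hg : (F).map g = inv ((F).map θ) ≫ (F).map (fst G X) := hg
  let ψ : X ⊗ X ⟶ G ⊗ X := lift g (snd X X)
  have hψ : (F).map ψ = inv ((F).map θ) := by
    apply map_hom_ext j
    · rw [← Functor.map_comp, lift_fst, hg]
    · rw [← Functor.map_comp, lift_snd, ← cancel_epi ((F).map θ), IsIso.hom_inv_id_assoc, ← Functor.map_comp, lift_snd]
  refine ⟨ψ, ?_, ?_⟩
  · show θ ≫ ψ = 𝟙 _
    apply CartesianMonoidalCategory.hom_ext
    · refine (hG _ inferInstance).1 ?_
      show (F).map ((θ ≫ ψ) ≫ fst G X) = (F).map (𝟙 _ ≫ fst G X)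
      simp [hψ]
    · simp [θ, ψ]
  · show ψ ≫ θ = 𝟙 _
    apply CartesianMonoidalCategory.hom_ext
    · refine (hN _ inferInstance).1 ?_
      show (F).map ((ψ ≫ θ) ≫ fst X X) = (F).map (𝟙 _ ≫ fst X X)
      simp [hψ]
    · simp [θ, ψ]

/-- For a smooth surjective pseudo-torsor, the mapping properties of the group and of the torsor agree. -/
theorem bijective_iff_bijective [Surjective X.hom] (a : AlgGrp.Action G X) (ha : NonAbH1.IsPseudoTorsorSch a) :
    (∀ Z : Over S, Smooth Z.hom → Function.Bijective (fun g : Z ⟶ G => (F).map g)) ↔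
      (∀ Z : Over S, Smooth Z.hom → Function.Bijective (fun g : Z ⟶ X => (F).map g)) := by
  have hT : NonAbH1.IsTorsorFor Scheme.fpqcPrecoverage a := by
    refine isTorsorFor_fpqc_of_fppf a ⟨ha, _, X.hom.singleton_mem_fppfPrecoverage, ?_⟩
    rintro T f ⟨⟩
    exact ⟨𝟙 _, Category.id_comp _⟩
  let θ : G ⊗ X ⟶ X ⊗ X := lift a.act (snd G X)
  haveI : IsIso θ := ha
  have hsm : ∀ (A : Over S), Smooth A.hom → Smooth (A ⊗ X).hom := fun A hA => by
    show Smooth (pullback.fst A.hom X.hom ≫ A.hom); infer_instance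
  have hsm' : ∀ (A : Over S), Smooth A.hom → Smooth (A ⊗ (G ⊗ X)).hom := fun A hA => by
    haveI : Smooth (G ⊗ X).hom := by show Smooth (pullback.fst G.hom X.hom ≫ G.hom); infer_instance
    show Smooth (pullback.fst A.hom (G ⊗ X).hom ≫ A.hom); infer_instance
  have hepi : ∀ (A : Over S), Epi ((F).map (fst A X)) := fun A => by
    haveI : Flat ((F).obj X).hom := by show Flat (pullback.snd X.hom j); infer_instance
    haveI : Surjective ((F).obj X).hom := by show Surjective (pullback.snd X.hom j); infer_instance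
    haveI : LocallyOfFinitePresentation ((F).obj X).hom := by
      show LocallyOfFinitePresentation (pullback.snd X.hom j); infer_instance
    haveI : Epi (fst ((F).obj A) ((F).obj X)).left := by
      show Epi (pullback.fst ((F).obj A).hom ((F).obj X).hom); infer_instance
    haveI : Epi ((Over.forget S').map (fst ((F).obj A) ((F).obj X))) := ‹_›
    haveI : Epi (fst ((F).obj A) ((F).obj X)) := (Over.forget S').epi_of_epi_map ‹_›
    have e : (F).map (fst A X) = (Functor.Monoidal.μIso (F) A X).inv ≫ fst ((F).obj A) ((F).obj X) := by simp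
    rw [e]; infer_instance
  constructor
  · intro hG Z hZ
    have inj : ∀ (Z : Over S), Smooth Z.hom → Function.Injective (fun g : Z ⟶ X => (F).map g) := by
      intro Z hZ h h' hh
      replace hh : (F).map h = (F).map h' := hh
      refine cancel_fst a hT ?_
      have e : ∀ k : Z ⟶ X, lift (fst Z X ≫ k) (snd Z X) ≫ inv θ ≫ a.act = fst Z X ≫ k := fun k => by
        have hθ1 : inv θ ≫ a.act = fst X X := by rw [IsIso.inv_comp_eq]; simp [θ]
        rw [hθ1, lift_fst]
      have : lift (fst Z X ≫ h) (snd Z X) ≫ inv θ = lift (fst Z X ≫ h') (snd Z X) ≫ inv θ := by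
        have hθ2 : inv θ ≫ snd G X = snd X X := by rw [IsIso.inv_comp_eq]; simp [θ]
        apply CartesianMonoidalCategory.hom_ext
        · refine (hG _ (hsm Z hZ)).1 ?_
          show (F).map _ = (F).map _
          have : (F).map (lift (fst Z X ≫ h) (snd Z X)) = (F).map (lift (fst Z X ≫ h') (snd Z X)) := by
            apply map_hom_ext j
            · rw [← Functor.map_comp, ← Functor.map_comp, lift_fst, lift_fst, Functor.map_comp, Functor.map_comp, hh]
            · rw [← Functor.map_comp, ← Functor.map_comp, lift_snd, lift_snd]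
          simp [this]
        · simp [hθ2]
      rw [← e h, ← e h', reassoc_of% this]
    refine ⟨inj Z hZ, fun h0 => ?_⟩
    let k := pairing j ((F).map (fst Z X) ≫ h0) ((F).map (snd Z X))
    obtain ⟨g, hg⟩ := (hG _ (hsm Z hZ)).2 (k ≫ (F).map (inv θ ≫ fst G X))
    replace hg : (F).map g = k ≫ (F).map (inv θ ≫ fst G X) := hg
    let m : Z ⊗ X ⟶ X := lift g (snd Z X) ≫ a.act
    have hm : (F).map m = (F).map (fst Z X) ≫ h0 := by
      have hθ2 : inv θ ≫ snd G X = snd X X := by rw [IsIso.inv_comp_eq]; simp [θ]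
      have hθ1 : inv θ ≫ a.act = fst X X := by rw [IsIso.inv_comp_eq]; simp [θ]
      have e : (F).map (lift g (snd Z X)) = k ≫ (F).map (inv θ) := by
        apply map_hom_ext j
        · rw [← Functor.map_comp, lift_fst, hg, Functor.map_comp, Category.assoc]
        · rw [← Functor.map_comp, lift_snd, Category.assoc, ← Functor.map_comp, hθ2, pairing_snd]
      rw [Functor.map_comp, e, Category.assoc, ← Functor.map_comp, hθ1, pairing_fst]
    obtain ⟨t, ht, -⟩ := existsUnique_desc₂ a hT m (inj _ (hsm' Z hZ) (by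
      show (F).map _ = (F).map _
      rw [(F).map_comp (Z ◁ a.act) m, (F).map_comp (Z ◁ snd G X) m, hm, ← Functor.map_comp_assoc, ← Functor.map_comp_assoc,
        whiskerLeft_fst, whiskerLeft_fst]))
    refine ⟨t, ?_⟩
    haveI := hepi Z
    show (F).map t = h0
    rw [← cancel_epi ((F).map (fst Z X)), ← Functor.map_comp, ht, hm]
  · intro hN Z hZ
    have inj : ∀ (Z : Over S), Smooth Z.hom → Function.Injective (fun g : Z ⟶ G => (F).map g) := by
      intro Z hZ g g' hh
      replace hh : (F).map g = (F).map g' := hh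
      refine cancel_fst a hT (pt_cancel a ha (x := snd Z X) ?_)
      refine (hN _ (hsm Z hZ)).1 ?_
      have : (F).map (lift (fst Z X ≫ g) (snd Z X)) = (F).map (lift (fst Z X ≫ g') (snd Z X)) := by
        apply map_hom_ext j
        · rw [← Functor.map_comp, ← Functor.map_comp, lift_fst, lift_fst, Functor.map_comp, Functor.map_comp, hh]
        · rw [← Functor.map_comp, ← Functor.map_comp, lift_snd, lift_snd]
      show (F).map _ = (F).map _
      simp only [pt, Functor.map_comp, this]
    refine ⟨inj Z hZ, fun g0 => ?_⟩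
    let k := pairing j ((F).map (fst Z X) ≫ g0) ((F).map (snd Z X))
    obtain ⟨m, hm⟩ := (hN _ (hsm Z hZ)).2 (k ≫ (F).map a.act)
    replace hm : (F).map m = k ≫ (F).map a.act := hm
    let g : Z ⊗ X ⟶ G := lift m (snd Z X) ≫ inv θ ≫ fst G X
    have hg : (F).map g = (F).map (fst Z X) ≫ g0 := by
      have e : (F).map (lift m (snd Z X)) = k ≫ (F).map θ := by
        apply map_hom_ext j
        · rw [← Functor.map_comp, lift_fst, hm, Category.assoc, ← Functor.map_comp, lift_fst]
        · rw [← Functor.map_comp, lift_snd, Category.assoc, ← Functor.map_comp, lift_snd, pairing_snd]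
      rw [Functor.map_comp, e, Category.assoc, ← Functor.map_comp, IsIso.hom_inv_id_assoc, pairing_fst]
    obtain ⟨t, ht, -⟩ := existsUnique_desc₂ a hT g (inj _ (hsm' Z hZ) (by
      show (F).map _ = (F).map _
      rw [(F).map_comp (Z ◁ a.act) g, (F).map_comp (Z ◁ snd G X) g, hg, ← Functor.map_comp_assoc, ← Functor.map_comp_assoc,
        whiskerLeft_fst, whiskerLeft_fst]))
    refine ⟨t, ?_⟩
    haveI := hepi Z
    show (F).map t = g0
    rw [← cancel_epi ((F).map (fst Z X)), ← Functor.map_comp, ht, hg]

end Groth.Agent.FpqcTorsor
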