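import Mathlib
import Groth.Agent.TFun.Rank2

/-!
# Finite surjective morphisms onto reduced schemes which become flat of constant rank after
pulling back along themselves
-/

set_option autoImplicit false
set_option linter.style.haveILetI false
set_option backward.isDefEq.respectTransparency false
universe u
open CategoryTheory CategoryTheory.Limits AlgebraicGeometry TensorProduct

namespace Groth.Agent.FpqcTorsor

variable {Z X : Scheme.{u}} (f : Z ⟶ X) [IsFinite f]

/-- Base change to a field-valued point is flat of the expected rank. -/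
theorem finrank_snd_fieldPoint [Surjective f] [Flat (pullback.snd f f)] (d : ℕ)
    (hd : ∀ z, (pullback.snd f f).finrank z = d) {K : Type u} [Field K]
    (x : Spec (CommRingCat.of K) ⟶ X) (q : Spec (CommRingCat.of K)) :
    (pullback.snd f x).finrank q = d := by
  obtain ⟨w, hw⟩ := (pullback.snd f x).surjective q
  let L := (pullback f x).residueField w
  let a : Spec L ⟶ Z := (pullback f x).fromSpecResidueField w ≫ pullback.fst f x
  let b : Spec L ⟶ Spec (CommRingCat.of K) :=
    (pullback f x).fromSpecResidueField w ≫ pullback.snd f x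
  have hab : a ≫ f = b ≫ x := by simp [a, b, pullback.condition]
  obtain ⟨r⟩ : Nonempty ↥(Spec L) := inferInstance
  have h1 : (pullback.snd (pullback.snd f x) b).finrank r = (pullback.snd f x).finrank q := by
    rw [Scheme.Hom.finrank_pullback_snd]
    congr 1
    show b r = q
    simp only [b, Scheme.Hom.comp_apply]
    erw [Scheme.fromSpecResidueField_apply]
    exact hw
  have h2 : (pullback.snd (pullback.snd f f) a).finrank r = d := by
    rw [Scheme.Hom.finrank_pullback_snd]; exact hd _
  let e : pullback (pullback.snd f x) b ≅ pullback (pullback.snd f f) a :=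
    pullbackLeftPullbackSndIso f x b ≪≫ pullback.congrHom rfl hab.symm ≪≫
      (pullbackLeftPullbackSndIso f f a).symm
  have he : e.hom ≫ pullback.snd (pullback.snd f f) a = pullback.snd (pullback.snd f x) b := by
    simp [e]
  rw [← h1, ← he, Scheme.Hom.finrank_comp_left_of_isIso, h2]

/-- Affine case. -/
theorem flat_affine {A B : Type u} [CommRing A] [CommRing B] [IsReduced A] [Algebra A B]
    [Module.Finite A B] (d : ℕ)
    (hd : ∀ (x : PrimeSpectrum A) (q : Spec (CommRingCat.of x.asIdeal.ResidueField)),
      (pullback.snd (Spec.map (CommRingCat.ofHom (algebraMap A B)))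
        (Spec.map (CommRingCat.ofHom (algebraMap A x.asIdeal.ResidueField)))).finrank q = d) :
    Module.Flat A B := by
  have hdim : ∀ x : PrimeSpectrum A, TFun.fibreDim B x = d := by
    intro x
    let κ := x.asIdeal.ResidueField
    obtain ⟨q⟩ : Nonempty ↥(Spec (CommRingCat.of κ)) := inferInstance
    let e := pullbackSymmetry (Spec.map (CommRingCat.ofHom (algebraMap A B)))
      (Spec.map (CommRingCat.ofHom (algebraMap A κ))) ≪≫ pullbackSpecIso A κ B
    have he : e.hom ≫ Spec.map (CommRingCat.ofHom (algebraMap κ (κ ⊗[A] B))) =
        pullback.snd (Spec.map (CommRingCat.ofHom (algebraMap A B)))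
          (Spec.map (CommRingCat.ofHom (algebraMap A κ))) := by
      simp only [e, Iso.trans_hom, Category.assoc]
      erw [pullbackSpecIso_hom_fst']
      simp
    have hq := hd x q
    haveI : IsFinite (Spec.map (CommRingCat.ofHom (algebraMap κ (κ ⊗[A] B)))) :=
      (IsFinite.SpecMap_iff _).2 (RingHom.finite_algebraMap.2 inferInstance)
    haveI : Flat (Spec.map (CommRingCat.ofHom (algebraMap κ (κ ⊗[A] B)))) :=
      (Flat.SpecMap_iff).2 (RingHom.flat_algebraMap_iff.2 inferInstance)
    rw [← he, Scheme.Hom.finrank_comp_left_of_isIso, Scheme.Hom.finrank_SpecMap_algebraMap,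
      Module.rankAtStalk_eq_finrank_of_free] at hq
    exact hq
  have hlc : IsLocallyConstant (TFun.fibreDim (A := A) B) := by
    rw [show TFun.fibreDim (A := A) B = fun _ => d from funext hdim]
    exact IsLocallyConstant.const d
  have h := TFun.freeLocus_eq_univ_of_fibreDim B hlc
  have hfr : ∀ p : PrimeSpectrum A, p ∈ Module.freeLocus A B := fun p => h ▸ Set.mem_univ p
  refine Module.flat_of_localized_maximal B fun P hP => ?_
  haveI : Module.Free (Localization.AtPrime P) (LocalizedModule P.primeCompl B) := hfr ⟨P, hP.isPrime⟩
  exact Module.Flat.trans A (Localization.AtPrime P) _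

/-- Affine target. -/
theorem flat_spec {R : CommRingCat.{u}} [_root_.IsReduced R] {W : Scheme.{u}} (g : W ⟶ Spec R)
    [IsFinite g] (d : ℕ)
    (h : ∀ (K : Type u) [Field K] (x : Spec (CommRingCat.of K) ⟶ Spec R)
      (q : Spec (CommRingCat.of K)), (pullback.snd g x).finrank q = d) : Flat g := by
  wlog hW : ∃ B, W = Spec B generalizing W
  · haveI hA : IsAffine W := isAffine_of_isAffineHom g
    rw [← MorphismProperty.cancel_left_of_respectsIso @Flat W.isoSpec.inv]
    refine this _ (fun K _ x q => ?_) ⟨_, rfl⟩
    let e : pullback (W.isoSpec.inv ≫ g) x ≅ pullback g x :=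
      (pullbackRightPullbackFstIso g x _).symm ≪≫ asIso (pullback.snd _ (pullback.fst g x))
    have he : e.hom ≫ pullback.snd g x = pullback.snd (W.isoSpec.inv ≫ g) x := by simp [e]
    haveI : Flat (pullback.snd g x) := inferInstance
    rw [← he, Scheme.Hom.finrank_comp_left_of_isIso, h]
  obtain ⟨B, rfl⟩ := hW
  obtain ⟨φ, rfl⟩ := Spec.map_surjective g
  have hfin := (IsFinite.SpecMap_iff φ).1 inferInstance
  rw [Flat.SpecMap_iff]
  algebraize [φ.hom]
  haveI : Module.Finite R B := hfin
  exact flat_affine d fun x q => h _ _ q

/-- A finite surjective morphism onto a reduced scheme is flat if it becomes flat of constant rank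
after pulling back along itself. -/
theorem flat_of_self [AlgebraicGeometry.IsReduced X] [Surjective f] [Flat (pullback.snd f f)] (d : ℕ)
    (hd : ∀ z, (pullback.snd f f).finrank z = d) : Flat f := by
  rw [IsZariskiLocalAtTarget.iff_of_openCover (P := @Flat) X.affineCover]
  intro i
  show Flat (pullback.snd f (X.affineCover.f i))
  haveI : AlgebraicGeometry.IsReduced (X.affineCover.X i) :=
    isReduced_of_isOpenImmersion (X.affineCover.f i)
  haveI := (affine_isReduced_iff _).1 ‹AlgebraicGeometry.IsReduced (X.affineCover.X i)›
  refine flat_spec _ d fun K _ x q => ?_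
  have h0 := finrank_snd_fieldPoint f d hd (x ≫ X.affineCover.f i) q
  have he := pullbackLeftPullbackSndIso_hom_snd f (X.affineCover.f i) x
  haveI : Flat (pullback.snd f (x ≫ X.affineCover.f i)) := inferInstance
  rw [← he, Scheme.Hom.finrank_comp_left_of_isIso, h0]

end Groth.Agent.FpqcTorsor
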