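import Groth.Agent.FpqcTorsor.Basic
import Groth.Agent.S0412
import Mathlib.AlgebraicGeometry.Sites.Etale

/-!
# Torsors: trivialisations on a covering, étale local sections
-/

set_option autoImplicit false
set_option linter.style.haveILetI false
set_option backward.isDefEq.respectTransparency false

universe u

open CategoryTheory CategoryTheory.Limits AlgebraicGeometry MonoidalCategory CartesianMonoidalCategory MonObj

namespace Groth.Agent.FpqcTorsor

variable {S : Scheme.{u}} {G X : Over S} [GrpObj G]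

/-- Being an isomorphism may be checked after base change along an fpqc covering family. -/
theorem isIso_of_forall_whiskerRight {A B : Over S} (f : A ⟶ B) {R : Presieve S} (hR : R ∈ Scheme.fpqcPrecoverage S)
    (h : ∀ ⦃S' : Scheme.{u}⦄ (g : S' ⟶ S), R g → IsIso (f ▷ Over.mk g)) : IsIso f := by
  obtain ⟨𝒰, h𝒰⟩ := Precoverage.mem_iff_exists_zeroHypercover.1 hR
  suffices h : IsIso f.left by
    haveI : IsIso ((Over.forget S).map f) := h
    exact isIso_of_reflects_iso f (Over.forget S)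
  refine S12496.result (MorphismProperty.isomorphisms Scheme.{u}) inferInstance f.left (𝒰.pullback₁ B.hom) fun i => ?_
  haveI := h (𝒰.f i) (h𝒰 ▸ ⟨i⟩)
  let k := (Over.forget S).map (f ▷ Over.mk (𝒰.f i))
  haveI : IsIso k := inferInstance
  have hk1 : k ≫ pullback.fst B.hom (𝒰.f i) = pullback.fst A.hom (𝒰.f i) ≫ f.left :=
    congrArg CommaMorphism.left (whiskerRight_fst f (Over.mk (𝒰.f i)))
  have hk2 : k ≫ pullback.snd B.hom (𝒰.f i) = pullback.snd A.hom (𝒰.f i) :=
    congrArg CommaMorphism.left (whiskerRight_snd f (Over.mk (𝒰.f i)))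
  have hbig : IsPullback (pullback.fst A.hom (𝒰.f i)) (k ≫ pullback.snd B.hom (𝒰.f i)) (f.left ≫ B.hom) (𝒰.f i) := by
    rw [hk2, Over.w f]; exact IsPullback.of_hasPullback _ _
  have hsq : IsPullback (pullback.fst A.hom (𝒰.f i)) k f.left (pullback.fst B.hom (𝒰.f i)) :=
    IsPullback.of_bot hbig hk1.symm (IsPullback.of_hasPullback _ _)
  show IsIso (pullback.snd f.left (pullback.fst B.hom (𝒰.f i)))
  rw [← hsq.isoPullback_inv_snd]
  infer_instance

/-- If the orbit map of a section over `T` is an isomorphism, so is the shear map over `T`. -/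
theorem isIso_shear_whiskerRight (a : AlgGrp.Action G X) {T : Over S} (σ : T ⟶ X)
    (hσ : IsIso (lift ((G ◁ σ) ≫ a.act) (snd G T))) : IsIso (lift a.act (snd G X) ▷ T) := by
  let φ : G ⊗ T ⟶ X ⊗ T := lift ((G ◁ σ) ≫ a.act) (snd G T)
  haveI : IsIso φ := hσ
  haveI : IsIso (lift μ[G] (snd G G)) := NonAbH1.isPseudoTorsorSch_trivialAction G
  have hφ2 : φ ≫ snd X T = snd G T := by simp [φ]
  have hψ2 : inv φ ≫ snd G T = snd X T := by rw [IsIso.inv_comp_eq, hφ2]
  let Ψ : (G ⊗ G) ⊗ T ⟶ (X ⊗ X) ⊗ T :=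
    lift (lift ((fst G G ▷ T) ≫ φ ≫ fst X T) ((snd G G ▷ T) ≫ φ ≫ fst X T)) (snd (G ⊗ G) T)
  let Ψ' : (X ⊗ X) ⊗ T ⟶ (G ⊗ G) ⊗ T :=
    lift (lift ((fst X X ▷ T) ≫ inv φ ≫ fst G T) ((snd X X ▷ T) ≫ inv φ ≫ fst G T)) (snd (X ⊗ X) T)
  have e1 : Ψ ≫ (fst X X ▷ T) = (fst G G ▷ T) ≫ φ := by
    ext <;> simp [Ψ, hφ2]
  have e2 : Ψ ≫ (snd X X ▷ T) = (snd G G ▷ T) ≫ φ := by
    ext <;> simp [Ψ, hφ2]
  have e1' : Ψ' ≫ (fst G G ▷ T) = (fst X X ▷ T) ≫ inv φ := by
    ext <;> simp [Ψ', hψ2]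
  have e2' : Ψ' ≫ (snd G G ▷ T) = (snd X X ▷ T) ≫ inv φ := by
    ext <;> simp [Ψ', hψ2]
  haveI : IsIso Ψ := by
    refine ⟨Ψ', ?_, ?_⟩
    · ext
      · simp only [Ψ', Category.assoc, lift_fst, Category.id_comp, lift_fst_assoc, reassoc_of% e1, IsIso.hom_inv_id_assoc]
        simp
      · simp only [Ψ', Category.assoc, lift_fst, lift_snd, Category.id_comp, lift_fst_assoc, reassoc_of% e2, IsIso.hom_inv_id_assoc]
        simp
      · simp [Ψ, Ψ']
    · ext
      · simp only [Ψ, Category.assoc, lift_fst, Category.id_comp, lift_fst_assoc, reassoc_of% e1', IsIso.inv_hom_id_assoc]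
        simp
      · simp only [Ψ, Category.assoc, lift_fst, lift_snd, Category.id_comp, lift_fst_assoc, reassoc_of% e2', IsIso.inv_hom_id_assoc]
        simp
      · simp [Ψ, Ψ']
  have hassoc : (G ◁ φ) ≫ (α_ G X T).inv ≫ (a.act ▷ T) ≫ fst X T =
      (α_ G G T).inv ≫ (μ[G] ▷ T) ≫ φ ≫ fst X T := by
    have hh : (G ◁ φ) ≫ (α_ G X T).inv ≫ fst (G ⊗ X) T = G ◁ ((G ◁ σ) ≫ a.act) := by
      apply CartesianMonoidalCategory.hom_ext <;> simp [φ]
    rw [whiskerRight_fst, reassoc_of% hh, MonoidalCategory.whiskerLeft_comp, Category.assoc]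
    simp only [φ, lift_fst]
    rw [← whisker_exchange_assoc, a.mul_act]
    simp
  have key : (G ◁ φ) ≫ (α_ G X T).inv ≫ (lift a.act (snd G X) ▷ T) =
      (α_ G G T).inv ≫ (lift μ[G] (snd G G) ▷ T) ≫ Ψ := by
    refine CartesianMonoidalCategory.hom_ext _ _ (CartesianMonoidalCategory.hom_ext _ _ ?_ ?_) ?_
    · simp only [Ψ, Category.assoc, lift_fst, whiskerRight_fst, whiskerRight_fst_assoc, lift_fst_assoc]
      have h3 : (lift μ[G] (snd G G) ▷ T) ≫ (fst G G ▷ T) = μ[G] ▷ T := by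
        rw [← MonoidalCategory.comp_whiskerRight, lift_fst]
      rw [reassoc_of% h3]
      rw [← whiskerRight_fst, hassoc]
    · simp [Ψ, φ]
      have h4 : (lift μ[G] (snd G G) ▷ T) ≫ (snd G G ▷ T) = snd G G ▷ T := by
        rw [← MonoidalCategory.comp_whiskerRight, lift_snd]
      have h5 : (α_ G G T).inv ≫ (snd G G ▷ T) = snd G (G ⊗ T) := by
        apply CartesianMonoidalCategory.hom_ext <;> simp
      rw [reassoc_of% h4, reassoc_of% h5]
    · simp [Ψ, φ]
  haveI : IsIso ((G ◁ φ) ≫ (α_ G X T).inv ≫ (lift a.act (snd G X) ▷ T)) := by rw [key]; infer_instance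
  haveI := IsIso.of_isIso_comp_left (G ◁ φ) ((α_ G X T).inv ≫ (lift a.act (snd G X) ▷ T))
  exact IsIso.of_isIso_comp_left (α_ G X T).inv _

/-- A torsor for the fpqc topology is the same as an action which becomes trivial on an fpqc covering. -/
theorem isTorsorFor_iff_orbit (a : AlgGrp.Action G X) :
    NonAbH1.IsTorsorFor Scheme.fpqcPrecoverage a ↔
      ∃ R ∈ Scheme.fpqcPrecoverage S, ∀ ⦃S' : Scheme.{u}⦄ (f : S' ⟶ S), R f →
        ∃ s : Over.mk f ⟶ X, IsIso (lift ((G ◁ s) ≫ a.act) (snd G (Over.mk f))) := by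
  constructor
  · rintro ⟨ha, R, hR, hsec⟩
    refine ⟨R, hR, fun S' f hf => ?_⟩
    obtain ⟨s, hs⟩ := hsec f hf
    exact ⟨Over.homMk s hs, isIso_orbit a ha _⟩
  · rintro ⟨R, hR, h⟩
    refine ⟨isIso_of_forall_whiskerRight _ hR fun S' f hf => ?_, R, hR, fun S' f hf => ?_⟩
    · obtain ⟨s, hs⟩ := h f hf
      exact isIso_shear_whiskerRight a s hs
    · obtain ⟨s, -⟩ := h f hf
      exact ⟨s.left, Over.w s⟩

theorem isTorsorFor_fpqc_of_fppf (a : AlgGrp.Action G X) (h : NonAbH1.IsTorsorFor Scheme.fppfPrecoverage a) :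
    NonAbH1.IsTorsorFor Scheme.fpqcPrecoverage a := by
  obtain ⟨ha, R, hR, hsec⟩ := h
  exact ⟨ha, R, Scheme.fppfPrecoverage_le_fpqcPrecoverage S hR, hsec⟩

/-- A smooth surjective morphism acquires sections on an étale covering of the base. -/
theorem isLocallyTrivialFor_etale_of_smooth [Smooth X.hom] [Surjective X.hom] :
    NonAbH1.IsLocallyTrivialFor Scheme.etalePrecoverage X := by
  choose S' g s' hg hs' h hh using fun s : S => S0412.result X.hom s (X.hom.surjective s)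
  refine ⟨Presieve.ofArrows S' g, ?_, ?_⟩
  · exact (Scheme.ofArrows_mem_precoverage_iff _).2 ⟨fun x => ⟨x, s' x, hs' x⟩, fun x => hg x⟩
  · rintro T f ⟨x⟩
    exact ⟨h x, hh x⟩

end Groth.Agent.FpqcTorsor
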